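import Groth.Agent.H13VADesc.Standard
import Groth.Agent.H13Desc.Immersion
import Groth.Agent.H29CurveDual.VADescent
import Groth.Agent.H17.Ample.VeryAmpleOfPn
import Groth.Agent.H11Sym.VeryAmpleLocal

/-! Faithfully flat descent of very ampleness. -/

set_option autoImplicit false
set_option linter.style.haveILetI false
noncomputable section
universe u
open CategoryTheory CategoryTheory.Limits AlgebraicGeometry Opposite TopologicalSpace CohB1
open Groth.Agent.H11Tilde Groth.Agent.H11Ample Groth.Agent.H11Proj Groth.Agent.H11Sym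
open Groth.Agent.H17.VeryAmplePn

namespace Groth.Agent.H13VADesc

attribute [local instance 10000] H10Coh.hasSheafifyAb H10Coh.hasWeakSheafifyAb H10Coh.hasExtAb H10Coh.enoughInjAb

/-- Sections of an inverse image along a flat change of base are combinations of inverse images. -/
theorem exists_comb {A B : Type u} [CommRing A] [CommRing B] [Algebra A B] [Module.Flat A B]
    {X X' : Scheme.{u}} [X.Over (Spec (CommRingCat.of A))] [X'.Over (Spec (CommRingCat.of B))]
    [CompactSpace X] [QuasiSeparatedSpace X] {j : X' ⟶ X}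
    (hsq : IsPullback j (X' ↘ Spec (CommRingCat.of B)) (X ↘ Spec (CommRingCat.of A))
      (Spec.map (CommRingCat.ofHom (algebraMap A B))))
    (M : X.Modules) [M.IsQuasicoherent] (g' : Γ((Scheme.Modules.pullback j).obj M, ⊤)) :
    ∃ (k : ℕ) (m : Fin k → Γ(M, ⊤)) (c : Fin k → B),
      g' = ∑ i, ProjUP.toGlobal (X' ↘ Spec (CommRingCat.of B)) (c i) • pullTop j (m i) := by
  open H10Coh H10Coh.FBC in
  letI : ∀ (N : X.Modules) (W : X.Opens), Module A Γ(N, W) := fun N W => modA N W
  letI : ∀ (N : X'.Modules) (W : X'.Opens), Module B Γ(N, W) := fun N W => modA N W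
  haveI := H10Coh.FBC.flat_fst hsq
  haveI := LeadFF.isAffineHom_fst hsq
  haveI : ∀ i, Injective ((H10Coh.MRes.inj ((Scheme.Modules.pullback j).obj M)).I i) :=
    fun i => H10Coh.injective_mI _ i
  let R := H10Coh.MRes.inj M
  let R' := H10Coh.MRes.inj ((Scheme.Modules.pullback j).obj M)
  let D := H10Coh.FBC.dataOfRes hsq R R' ((Scheme.Modules.pullbackPushforwardAdjunction j).unit.app M)
  haveI : ((Scheme.Modules.pullback j).obj M).IsQuasicoherent := H29Fitt.isQCoh_pullback j M ‹_›
  obtain ⟨-, hs⟩ := H10Coh.FBC.injBC_surjBC D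
    (fun W hW => H10Coh.FBC.bijective_bcMap_unit hsq M ‹_› hW)
    (fun i W hW => ⟨@H10Coh.subsingleton_HnM_of_isAffineOpen _ M ‹_› _ hW i,
      @H10Coh.subsingleton_HnM_of_isAffineOpen _ ((Scheme.Modules.pullback j).obj M) ‹_› _ (hW.preimage j) i⟩) 0 ⊤ (by simpa using isCompact_univ)
  obtain ⟨z, hz⟩ := hs g'
  replace hz : H10Coh.FBC.ΦZ D 0 ⊤ z = g' := sub_eq_zero.1 hz
  subst hz
  induction z using TensorProduct.induction_on with
  | zero => exact ⟨0, Fin.elim0, Fin.elim0, by rw [map_zero]; simp; rfl⟩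
  | add x y hx hy =>
    obtain ⟨k, m, c, hc⟩ := hx
    obtain ⟨l, n, d, hd⟩ := hy
    refine ⟨k + l, Fin.append m n, Fin.append c d, ?_⟩
    refine (map_add _ x y).trans ((congrArg₂ (· + ·) hc hd).trans ?_)
    simp only [Fin.sum_univ_add, Fin.append_left, Fin.append_right]
  | tmul b m =>
    refine ⟨1, fun _ => m, fun _ => b, ?_⟩
    refine (H10Coh.FBC.bcMap_tmul _ ⊤ b m).trans ?_
    rw [Fin.sum_univ_one]
    refine congrArg₂ (· • ·) ?_ rfl
    show (_ : Scheme).presheaf.map (homOfLE (le_refl ⊤)).op (LeadFF.glob _ b) = _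
    rw [show (homOfLE (le_refl (⊤ : Opens _))).op = 𝟙 _ from rfl, CategoryTheory.Functor.map_id]
    rfl


/-- Quasi-compact immersions descend along faithfully flat quasi-compact maps. -/
theorem isImmersion_descends {X Y Y' X' : Scheme.{u}} (f : X ⟶ Y) [QuasiCompact f] (g : Y' ⟶ Y) [Surjective g]
    [Flat g] [QuasiCompact g] (j : X' ⟶ X) (f' : X' ⟶ Y') (sq : IsPullback j f' f g) (h : IsImmersion f') :
    IsImmersion f := by
  have : IsImmersion (pullback.snd f g) := by
    rw [← sq.isoIsPullback_inv_snd _ _ (IsPullback.of_hasPullback f g)]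
    infer_instance
  refine Groth.Agent.H13Desc.isImmersion_of_pullback f g (Groth.Agent.H13Desc.preimage_closure_range f g)
    (fun s hs => (Flat.isQuotientMap_of_surjective g).isOpen_preimage.mp hs) fun U hU => ?_
  haveI : Surjective (g ∣_ U) := IsZariskiLocalAtTarget.restrict ‹_› U
  haveI : Flat (g ∣_ U) := IsZariskiLocalAtTarget.restrict ‹_› U
  haveI : QuasiCompact (g ∣_ U) := IsZariskiLocalAtTarget.restrict ‹_› U
  exact MorphismProperty.of_pullback_snd_of_descendsAlong (P := @IsClosedImmersion)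
    (Q := H18Descent.fpqc) ⟨⟨inferInstance, inferInstance⟩, inferInstance⟩ hU

/-- Very ampleness descends along a faithfully flat extension of rings. -/
theorem isRelVeryAmplePn_of_baseChange {A B : Type u} [CommRing A] [CommRing B] [Algebra A B]
    [Module.Flat A B] {X X' : Scheme.{u}} (q : X ⟶ Spec (CommRingCat.of A)) [LocallyOfFiniteType q] [QuasiCompact q]
    (q' : X' ⟶ Spec (CommRingCat.of B)) (j : X' ⟶ X)
    [Surjective (Spec.map (CommRingCat.ofHom (algebraMap A B)))]
    (sq : IsPullback j q' q (Spec.map (CommRingCat.ofHom (algebraMap A B))))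
    (L : X.Modules) (hL : PicF.IsInvertible L)
    (h : RelProj.IsRelVeryAmple q' ((Scheme.Modules.pullback j).obj L)) :
    RelAmple.IsRelVeryAmplePn q L := by
  classical
  let L' := (Scheme.Modules.pullback j).obj L
  let g := Spec.map (CommRingCat.ofHom (algebraMap A B))
  haveI : Flat g := by
    rw [HasRingHomProperty.Spec_iff (P := @Flat)]
    exact RingHom.flat_algebraMap_iff.2 inferInstance
  have hL' : PicF.IsInvertible L' := H11Ample.isInvertible_pullback j hL
  haveI : LocallyOfFiniteType q' := MorphismProperty.of_isPullback sq ‹LocallyOfFiniteType q›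
  haveI : QuasiCompact q' := MorphismProperty.of_isPullback sq ‹QuasiCompact q›
  haveI : IsSeparated q' := isSeparated_of_isRelVeryAmple h
  haveI : IsSeparated q := MorphismProperty.of_isPullback_of_descendsAlong (P := @IsSeparated)
    (Q := H18Descent.fpqc) sq.flip ⟨⟨‹Surjective g›, ‹Flat g›⟩, inferInstance⟩ ‹IsSeparated q'›
  haveI : CompactSpace X := QuasiCompact.compactSpace_of_compactSpace q
  haveI : CompactSpace X' := QuasiCompact.compactSpace_of_compactSpace q'
  haveI : QuasiSeparatedSpace X := quasiSeparatedSpace_of_quasiSeparated q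
  haveI : L.IsQuasicoherent := H28Mero.isQCoh_of_isInvertible hL
  letI : X.Over (Spec (CommRingCat.of A)) := ⟨q⟩
  letI : X'.Over (Spec (CommRingCat.of B)) := ⟨q'⟩
  obtain ⟨E, hE, u, hu⟩ := isRelVeryAmple_iff.1 h
  let W : Set Γ(L', ⊤) := Set.range fun e : Γ(E, ⊤) => (uSec u e : Γ(L', ⊤))
  have key := fun x : X' => exists_global_point hE u hL' (hu x).some
  choose v t ht hxt haff hfr using key
  obtain ⟨T, hT⟩ := CompactSpace.elim_nhds_subcover (fun x => (X'.basicOpen (t x) : Set X'))
    (fun x => (X'.basicOpen (t x)).isOpen.mem_nhds (hxt x))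
  have hfin : ∀ x : X', ∃ F : Finset Γ(L', ⊤), ∃ htF : t x ∈ rR q' (v x) F,
      fracRing (rR q' (v x) F) htF = ⊤ := by
    intro x
    let f := (q'.appLE ⊤ (X'.basicOpen (t x)) le_top).hom
    have hf : f.FiniteType := q'.finiteType_appLE (isAffineOpen_top _) (haff x) le_top
    obtain ⟨G, hG⟩ := (@Algebra.FiniteType.out _ _ _ _ f.toAlgebra hf)
    letI := f.toAlgebra
    choose N a ha e using fun z : G => (hfr x).ge (Subring.mem_top z.1)
    choose Fz hFzA hFz using fun z : G => exists_finset_rR q' (v x) W (ha z)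
    obtain ⟨Ft, -, hFt⟩ := exists_finset_rR q' (v x) W (ht x)
    refine ⟨Ft ∪ Finset.univ.biUnion Fz, rR_mono q' (v x) (by simp) hFt, ?_⟩
    rw [eq_top_iff]
    have hG' := congrArg Subalgebra.toSubring hG
    rw [Algebra.adjoin_eq_ring_closure, Algebra.top_toSubring] at hG'
    rw [← hG', Subring.closure_le]
    rintro c (⟨r, rfl⟩ | hc)
    · refine ⟨0, q'.appLE ⊤ (gen L' (v x)) le_top r, Subring.subset_closure (Or.inl ⟨r, rfl⟩), ?_⟩
      rw [pow_zero, mul_one]
      exact (congr($(q'.appLE_map le_top (homOfLE (X'.basicOpen_le (t x))).op) r)).symm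
    · refine ⟨N ⟨c, hc⟩, a ⟨c, hc⟩, rR_mono q' (v x) ?_ (hFz ⟨c, hc⟩), e ⟨c, hc⟩⟩
      intro w hw
      exact Finset.mem_coe.2 (Finset.mem_union_right _ (Finset.mem_biUnion.2 ⟨⟨c, hc⟩, Finset.mem_univ _, hw⟩))
  choose F htF hF using hfin
  let All : Finset Γ(L', ⊤) := T.biUnion F ∪ T.image v
  choose k m c hmc using fun w : All => exists_comb (A := A) (B := B) sq L w.1
  let I := Option (Σ w : All, Fin (k w))
  obtain ⟨n, ⟨σ⟩⟩ : ∃ n : ℕ, Nonempty (I ≃ Fin (n + 1)) :=
    ⟨Fintype.card (Σ w : All, Fin (k w)), ⟨Fintype.equivFinOfCardEq Fintype.card_option⟩⟩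
  let S : Fin (n + 1) → Γ(L, ⊤) := fun l => ((σ.symm l).map fun p => m p.1 p.2).getD 0
  let S' : Fin (n + 1) → Γ(L', ⊤) := fun l => pullTop j (S l)
  have hspan : ∀ w : Γ(L', ⊤), w ∈ (All : Set Γ(L', ⊤)) →
      ∃ d : Fin (n + 1) → Γ(Spec (CommRingCat.of B), ⊤), w = ∑ l, q'.appLE ⊤ ⊤ le_top (d l) • S' l := by
    intro w hw
    let d₀ : I → Γ(Spec (CommRingCat.of B), ⊤) := fun o =>
      match o with
      | none => 0
      | some ⟨w', i⟩ => if w' = ⟨w, hw⟩ then (Scheme.ΓSpecIso (CommRingCat.of B)).inv (c w' i) else 0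
    refine ⟨fun l => d₀ (σ.symm l), ?_⟩
    rw [← σ.sum_comp, Fintype.sum_option, Fintype.sum_sigma, Finset.sum_eq_single (⟨w, hw⟩ : All)]
    · simp only [d₀, S', S, Equiv.symm_apply_apply, map_zero, zero_smul, zero_add, if_pos, Option.map_some,
        Option.getD_some]
      refine (hmc ⟨w, hw⟩).trans (Finset.sum_congr rfl fun i _ => congrArg (· • _) ?_)
      simp only [ProjUP.toGlobal, Scheme.Hom.appLE]
      simp
      rfl
    · intro w' _ hne
      refine Finset.sum_eq_zero fun i _ => ?_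
      simp only [d₀, Equiv.symm_apply_apply, if_neg hne, map_zero, zero_smul]
    · exact fun hn => absurd (Finset.mem_univ _) hn
  have change' : ∀ y : {x // x ∈ T}, ∀ z ∈ X'.basicOpen (t y.1),
      ∃ (l : Fin (n + 1)) (t' : Γ(X', gen L' (S' l))) (ht' : t' ∈ rR q' (S' l) (Set.range S')),
        z ∈ X'.basicOpen t' ∧ IsAffineOpen (X'.basicOpen t') ∧
          fracRing (rR q' (S' l) (Set.range S')) ht' = ⊤ := by
    intro y z hz
    have hsub : (F y.1 : Set Γ(L', ⊤)) ⊆ All := fun w hw =>
      Finset.mem_coe.2 (Finset.mem_union_left _ (Finset.mem_biUnion.2 ⟨y.1, y.2, hw⟩))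
    refine exists_change q' hL' S' (All : Set Γ(L', ⊤)) hspan (v y.1)
      (Finset.mem_coe.2 (Finset.mem_union_right _ (Finset.mem_image_of_mem v y.2))) (t y.1)
      (rR_mono q' _ hsub (htF y.1)) (haff y.1) (eq_top_iff.2 fun w _ => ?_) z hz
    obtain ⟨N, a, ha, e⟩ := (hF y.1).ge (Subring.mem_top w)
    exact ⟨N, a, rR_mono q' _ hsub ha, e⟩
  have hall : ∀ z : X', ∃ (l : Fin (n + 1)) (t' : Γ(X', gen L' (S' l))) (ht' : t' ∈ rR q' (S' l) (Set.range S')),
      z ∈ X'.basicOpen t' ∧ IsAffineOpen (X'.basicOpen t') ∧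
        fracRing (rR q' (S' l) (Set.range S')) ht' = ⊤ := fun z => by
    obtain ⟨y, hy, hzy⟩ := Set.mem_iUnion₂.1 (hT.ge (Set.mem_univ z))
    exact change' ⟨y, hy⟩ z hzy
  choose jj s hs hzs haffs hfrs using hall
  have hgj : ∀ l, gen L' (S' l) = j ⁻¹ᵁ gen L (S l) := fun l => by
    have h1 := gen_smul_pullSect j hL (S l) (c := 1) isUnit_one
    rwa [one_smul] at h1
  haveI : Surjective j := MorphismProperty.of_isPullback sq.flip ‹Surjective g›
  have hgen : ∀ x, ∃ l, x ∈ gen L (S l) := fun x => by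
    obtain ⟨z, rfl⟩ := j.surjective x
    exact ⟨jj z, (hgj _).le (X'.basicOpen_le _ (hzs z))⟩
  obtain ⟨r, τ, hτ⟩ := exists_toPn' hL S hgen
  let i : X ⟶ ProjSpaceOver n (Spec (CommRingCat.of A)) := pullback.lift r q (specULiftZIsTerminal.hom_ext _ _)
  let i' : X' ⟶ ProjSpaceOver n (Spec (CommRingCat.of B)) :=
    pullback.lift (j ≫ r) q' (specULiftZIsTerminal.hom_ext _ _)
  have sqi : IsPullback j i' i (LeadVA.projMap n g) :=
    LeadVA.isPullback_projMap_lift sq (pullback.lift_snd _ _ _) (pullback.lift_snd _ _ _)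
      ((pullback.lift_fst _ _ _).trans (congrArg (j ≫ ·) (pullback.lift_fst _ _ _)).symm)
  let Tw := Twist.twistProjSpace n (ULift.{u} ℤ) 1
  let τz : (Scheme.Modules.pullback (j ≫ r)).obj Tw ≅ L' :=
    ((Scheme.Modules.pullbackComp j r).app Tw).symm ≪≫ (Scheme.Modules.pullback j).mapIso τ
  have hτz : ∀ l, τz.hom.app ⊤ (pullTop (j ≫ r) (L := Tw) (ProjUP.coord n (ULift.{u} ℤ) l)) = S' l := by
    intro l
    show ((Scheme.Modules.pullback j).map τ.hom).app ⊤
      (((Scheme.Modules.pullbackComp j r).inv.app Tw).app ⊤ (pullTop (j ≫ r) (L := Tw) (ProjUP.coord n _ l))) = _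
    refine (congrArg (((Scheme.Modules.pullback j).map τ.hom).app ⊤)
      (H17.PullSect.pullSect_comp j r Tw ⊤ (ProjUP.coord n _ l))).trans ?_
    refine (H17.PullSect.pullSect_natural j τ.hom ⊤ _).symm.trans ?_
    exact congrArg (OmegaSh.pullSect j L ⊤) (hτ l)
  obtain ⟨hpre, hrat⟩ := pn_sections (j ≫ r) τz S' hτz
  have hi' : IsImmersion i' := by
    have e : i' ≫ pullback.fst (ProjSpace.toSpec n (ULift.{u} ℤ)) (specULiftZIsTerminal.from _) = j ≫ r :=
      pullback.lift_fst _ _ _
    refine isImmersion_of_standard q' S' jj s hs (fun z => ⟨z, hzs z⟩) haffs hfrs i'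
      (pullback.lift_snd _ _ _) (fun l => by rw [e]; exact (hpre l).symm) ?_
    rw [e]
    intro a b
    exact ⟨_, hrat a b⟩
  haveI : Surjective (LeadVA.projMap n g) :=
    MorphismProperty.of_isPullback (LeadVA.isPullback_projMap n g).flip ‹Surjective g›
  haveI : Flat (LeadVA.projMap n g) :=
    MorphismProperty.of_isPullback (LeadVA.isPullback_projMap n g).flip ‹Flat g›
  haveI : QuasiCompact (LeadVA.projMap n g) :=
    MorphismProperty.of_isPullback (LeadVA.isPullback_projMap n g).flip (inferInstance : QuasiCompact g)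
  haveI : IsProper (CohB1.ProjSpaceOver.toBase n (Spec (CommRingCat.of A))) := H27Weil.isProper_toBase n _
  haveI : QuasiCompact (i ≫ CohB1.ProjSpaceOver.toBase n (Spec (CommRingCat.of A))) := by
    rw [show i ≫ CohB1.ProjSpaceOver.toBase n (Spec (CommRingCat.of A)) = q from pullback.lift_snd _ _ _]
    infer_instance
  haveI : QuasiCompact i := QuasiCompact.of_comp i (CohB1.ProjSpaceOver.toBase n _)
  refine ⟨n, i, isImmersion_descends i (LeadVA.projMap n g) j i' sqi hi', pullback.lift_snd _ _ _,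
    ⟨τ.symm ≪≫ ((Scheme.Modules.pullbackCongr (pullback.lift_fst _ _ _)).symm.app _) ≪≫
      ((Scheme.Modules.pullbackComp i _).app _).symm⟩⟩

/-- An affine scheme mapping flatly and surjectively onto a quasi-compact scheme. -/
theorem exists_flat_cover (P : Scheme.{u}) [CompactSpace P] :
    ∃ (R : CommRingCat.{u}) (p : Spec R ⟶ P), Flat p ∧ Surjective p := by
  let 𝒰 := P.affineCover.finiteSubcover
  haveI : Flat (Sigma.desc 𝒰.f) := IsZariskiLocalAtSource.sigmaDesc fun _ => inferInstance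
  exact ⟨_, (∐ 𝒰.X).isoSpec.inv ≫ Sigma.desc 𝒰.f, inferInstance, inferInstance⟩

/-- Very ampleness descends along faithfully flat quasi-compact maps. -/
theorem isRelVeryAmple_of_baseChange {X Y X' Y' : Scheme.{u}} (f : X ⟶ Y) [LocallyOfFiniteType f] [QuasiCompact f]
    (g : Y' ⟶ Y) [Surjective g] [Flat g] [QuasiCompact g] (g' : X' ⟶ X) (f' : X' ⟶ Y')
    (sq : IsPullback g' f' f g) (L : X.Modules) (hL : PicF.IsInvertible L)
    (h : RelProj.IsRelVeryAmple f' ((Scheme.Modules.pullback g').obj L)) :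
    RelProj.IsRelVeryAmple f L := by
  refine isRelVeryAmple_of_cover hL (fun U : Y.affineOpens => U.1) (iSup_affineOpens_eq_top Y) fun U => ?_
  haveI : IsAffine U.1.toScheme := U.2
  -- the chart over the affine open
  let A : Type u := Γ(Y, U.1)
  let a : Spec (CommRingCat.of A) ⟶ Y := U.2.fromSpec
  let P := pullback g a
  haveI : CompactSpace P := QuasiCompact.compactSpace_of_compactSpace (pullback.snd g a)
  obtain ⟨R, p, hp, hps⟩ := exists_flat_cover P
  let b : Spec R ⟶ Spec (CommRingCat.of A) := p ≫ pullback.snd g a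
  obtain ⟨φ, hφ⟩ := Spec.map_surjective b
  letI : Algebra A R := φ.hom.toAlgebra
  haveI : Flat b := inferInstance
  haveI : Module.Flat A R := RingHom.flat_algebraMap_iff.1 ((HasRingHomProperty.Spec_iff (P := @Flat)).1
    (show Flat (Spec.map φ) by rw [hφ]; infer_instance))
  haveI : Surjective (Spec.map (CommRingCat.ofHom (algebraMap A R))) :=
    show Surjective (Spec.map φ) by rw [hφ]; infer_instance
  let XU := pullback f a
  let qU : XU ⟶ Spec (CommRingCat.of A) := pullback.snd f a
  let XR := pullback qU b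
  let jR : XR ⟶ XU := pullback.fst qU b
  let qR : XR ⟶ Spec R := pullback.snd qU b
  have sqR : IsPullback jR qR qU (Spec.map (CommRingCat.ofHom (algebraMap A R))) := by
    show IsPullback jR qR qU (Spec.map φ)
    rw [hφ]
    exact IsPullback.of_hasPullback qU b
  let c : Spec R ⟶ Y' := p ≫ pullback.fst g a
  have big : IsPullback (jR ≫ pullback.fst f a) qR f (c ≫ g) := by
    have h1 := (IsPullback.of_hasPullback qU b).paste_horiz (IsPullback.of_hasPullback f a)
    rwa [show b ≫ a = c ≫ g by simp only [b, c, Category.assoc, pullback.condition]] at h1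
  obtain ⟨l, hl₁, hl₂⟩ := sq.exists_lift (jR ≫ pullback.fst f a) (qR ≫ c) (by rw [big.w]; simp only [c, Category.assoc])
  have sql : IsPullback l qR f' c := IsPullback.of_right (by rw [hl₁]; exact big) hl₂ sq
  have hR := H11Sym.isRelVeryAmple_baseChange sql (H11Ample.isInvertible_pullback g' hL) h
  let LU := (Scheme.Modules.pullback (pullback.fst f a)).obj L
  have hR' : RelProj.IsRelVeryAmple qR ((Scheme.Modules.pullback jR).obj LU) :=
    isRelVeryAmple_of_iso ((Scheme.Modules.pullbackComp l g').app L ≪≫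
      (Scheme.Modules.pullbackCongr hl₁).app L ≪≫ ((Scheme.Modules.pullbackComp jR (pullback.fst f a)).app L).symm) hR
  have hU := isRelVeryAmplePn_of_baseChange qU qR jR sqR LU (H11Ample.isInvertible_pullback _ hL) hR'
  have hU' := H17.VeryAmpleOfPn.isRelVeryAmple_of_isRelVeryAmplePn hU
  -- back to the open subscheme
  let e : U.1.toScheme ⟶ Spec (CommRingCat.of A) := U.2.isoSpec.hom
  have hea : e ≫ a = U.1.ι := U.2.isoSpec_hom_fromSpec
  obtain ⟨k, hk₁, hk₂⟩ := (IsPullback.of_hasPullback f a).exists_lift (f ⁻¹ᵁ U.1).ι ((f ∣_ U.1) ≫ e)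
    (by rw [Category.assoc, hea, morphismRestrict_ι])
  have sqk : IsPullback k (f ∣_ U.1) qU e :=
    IsPullback.of_right (by rw [hk₁, hea]; exact (isPullback_morphismRestrict f U.1).flip) hk₂
      (IsPullback.of_hasPullback f a)
  exact isRelVeryAmple_of_iso ((Scheme.Modules.pullbackComp k (pullback.fst f a)).app L ≪≫
      (Scheme.Modules.pullbackCongr hk₁).app L ≪≫ ((Scheme.Modules.restrictFunctorIsoPullback _).app L).symm)
    (H11Sym.isRelVeryAmple_baseChange sqk (H11Ample.isInvertible_pullback _ hL) hU')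

end Groth.Agent.H13VADesc
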