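import Groth.Agent.H17.Ample.VeryAmplePn
import Groth.Agent.H11Proj.PnGlobal

/-! Immersions into projective space from standard data, and change of the sections. -/

set_option autoImplicit false
set_option linter.style.haveILetI false
noncomputable section
universe u
open CategoryTheory CategoryTheory.Limits AlgebraicGeometry Opposite TopologicalSpace CohB1
open Groth.Agent.H11Tilde Groth.Agent.H11Ample Groth.Agent.H11Proj Groth.Agent.H11Sym
open Groth.Agent.H17.VeryAmplePn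

namespace Groth.Agent.H13VADesc

variable {X Y : Scheme.{u}} {L : X.Modules}

/-- A morphism to projective space by sections as in the standard data is an immersion. -/
theorem isImmersion_of_standard [IsAffine Y] (q : X ⟶ Y) {n : ℕ}
    (v : Fin (n + 1) → Γ(L, ⊤)) {J : Type u} (j : J → Fin (n + 1)) (t : ∀ a, Γ(X, gen L (v (j a))))
    (ht : ∀ a, t a ∈ rR q (v (j a)) (Set.range v)) (hcov : ∀ x, ∃ a, x ∈ X.basicOpen (t a))
    (haff : ∀ a, IsAffineOpen (X.basicOpen (t a)))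
    (hsurj : ∀ a, fracRing (rR q (v (j a)) (Set.range v)) (ht a) = ⊤)
    (i : X ⟶ ProjSpaceOver n Y) (h₂ : i ≫ ProjSpaceOver.toBase n Y = q)
    (hpre : ∀ l, (i ≫ pullback.fst (ProjSpace.toSpec n (ULift.{u} ℤ)) (specULiftZIsTerminal.from Y)) ⁻¹ᵁ Proj.basicOpen (polyGrading n (ULift.{u} ℤ)) (MvPolynomial.X l) = gen L (v l))
    (hratio : ∀ k l, ∃ ρ, L.presheaf.map (homOfLE (le_top : (i ≫ pullback.fst (ProjSpace.toSpec n (ULift.{u} ℤ)) (specULiftZIsTerminal.from Y)) ⁻¹ᵁ Proj.basicOpen (polyGrading n (ULift.{u} ℤ)) (MvPolynomial.X k) ≤ ⊤)).op (v l) =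
      (i ≫ pullback.fst (ProjSpace.toSpec n (ULift.{u} ℤ)) (specULiftZIsTerminal.from Y)).app (Proj.basicOpen (polyGrading n (ULift.{u} ℤ)) (MvPolynomial.X k)) ρ •
        L.presheaf.map (homOfLE (le_top : (i ≫ pullback.fst (ProjSpace.toSpec n (ULift.{u} ℤ)) (specULiftZIsTerminal.from Y)) ⁻¹ᵁ Proj.basicOpen (polyGrading n (ULift.{u} ℤ)) (MvPolynomial.X k) ≤ ⊤)).op (v k)) :
    IsImmersion i := by
  let p₁ := pullback.fst (ProjSpace.toSpec n (ULift.{u} ℤ)) (specULiftZIsTerminal.from Y)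
  let p₂ := pullback.snd (ProjSpace.toSpec n (ULift.{u} ℤ)) (specULiftZIsTerminal.from Y)
  let r := i ≫ p₁
  have h₁ : i ≫ p₁ = r := rfl
  let W : J → (ProjSpaceOver n Y).Opens := fun a =>
    p₁ ⁻¹ᵁ Proj.basicOpen (polyGrading n (ULift.{u} ℤ)) (MvPolynomial.X (j a)) ⊓ p₂ ⁻¹ᵁ ⊤
  have hWpre : ∀ a, i ⁻¹ᵁ W a = gen L (v (j a)) := fun a => by
    have e : i ⁻¹ᵁ W a = r ⁻¹ᵁ Proj.basicOpen (polyGrading n (ULift.{u} ℤ)) (MvPolynomial.X (j a)) ⊓ q ⁻¹ᵁ ⊤ := by
      rw [← h₁, ← h₂]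
      rfl
    rw [e, hpre (j a)]
    exact inf_eq_left.2 le_top
  have hWaff : ∀ a, IsAffineOpen (W a) := fun a =>
    isAffineOpen_fst_inf_snd _ _ (isAffineOpen_top _)
      (Proj.isAffineOpen_basicOpen (polyGrading n (ULift.{u} ℤ)) _ (X_mem (j a)) one_pos) le_top (isAffineOpen_top Y) le_top
  have hlift : ∀ (a : J) (b : Γ(X, gen L (v (j a)))), b ∈ rR q (v (j a)) (Set.range v) →
      ∃ w, i.appLE (W a) (gen L (v (j a))) (hWpre a).ge w = b := by
    intro a b hb
    refine (Subring.closure_le (t := (i.appLE (W a) (gen L (v (j a))) (hWpre a).ge).hom.range)).2 ?_ hb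
    rintro c (⟨s, rfl⟩ | ⟨_, ⟨l, rfl⟩, hl⟩)
    · refine ⟨p₂.appLE ⊤ (W a) inf_le_right s, ?_⟩
      have e := Scheme.Hom.appLE_comp_appLE i p₂ ⊤ (W a) (gen L (v (j a))) inf_le_right (hWpre a).ge
      simp only [show i ≫ p₂ = q from h₂] at e
      exact congr($e s)
    · let D := Proj.basicOpen (polyGrading n (ULift.{u} ℤ)) (MvPolynomial.X (j a))
      obtain ⟨ρ, hρ⟩ := hratio (j a) l
      refine ⟨p₁.appLE D (W a) inf_le_left ρ, ?_⟩
      have hle : gen L (v (j a)) ≤ r ⁻¹ᵁ D := (hpre (j a)).ge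
      have h3 := congrArg (L.presheaf.map (homOfLE hle).op) hρ
      rw [H10Coh.mres_mres, Scheme.Modules.map_smul, H10Coh.mres_mres] at h3
      have h4 := ((isGen_gen (v (j a))).bijective le_rfl).1
        (a₁ := c) (a₂ := X.presheaf.map (homOfLE hle).op (r.app D ρ))
        (by beta_reduce; rw [H10Coh.mres_self]; exact hl.trans h3)
      rw [h4]
      have e := Scheme.Hom.appLE_comp_appLE i p₁ D (W a) (gen L (v (j a))) inf_le_left (hWpre a).ge
      simp only [h₁] at e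
      refine Eq.trans (congr($e ρ)) ?_
      rfl
  choose κ hκ using fun a => hlift a (t a) (ht a)
  have hpreκ : ∀ a, i ⁻¹ᵁ (ProjSpaceOver n Y).basicOpen (κ a) = X.basicOpen (t a) := fun a => by
    rw [← hκ a, Scheme.basicOpen_appLE]
    exact (inf_eq_right.2 ((i.preimage_mono ((ProjSpaceOver n Y).basicOpen_le _)).trans (hWpre a).le)).symm
  refine H11Sym.isImmersion_of_local i (fun a => (ProjSpaceOver n Y).basicOpen (κ a))
    (fun x => (hcov x).imp fun a ha => (hpreκ a).ge ha) fun a => ?_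
  refine (H11Sym.isClosedImmersion_morphismRestrict_iff i ((hWaff a).basicOpen (κ a))).2
    ⟨(hpreκ a) ▸ haff a, fun z => ?_⟩
  let i₁ : i ⁻¹ᵁ (ProjSpaceOver n Y).basicOpen (κ a) ≤ X.basicOpen (t a) := (hpreκ a).le
  let i₂ : X.basicOpen (t a) ≤ i ⁻¹ᵁ (ProjSpaceOver n Y).basicOpen (κ a) := (hpreκ a).ge
  obtain ⟨N, c, hc, e⟩ := (hsurj a).ge (Subring.mem_top (resF i₂ z))
  obtain ⟨w, hw⟩ := hlift a c hc
  let P := ProjSpaceOver n Y
  have hkey : ∀ v', i.app _ (P.presheaf.map (homOfLE (P.basicOpen_le (κ a))).op v') =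
      resF i₁ (resF (X.basicOpen_le _) (i.appLE _ _ (hWpre a).ge v')) := fun v' => by
    simp only [resF, Scheme.Hom.app_eq_appLE, ← ConcreteCategory.comp_apply, Scheme.Hom.appLE_map,
      Scheme.Hom.map_appLE]
    rfl
  haveI := (hWaff a).isLocalization_basicOpen (κ a)
  obtain ⟨vu, hvu⟩ : IsUnit (P.presheaf.map (homOfLE (P.basicOpen_le (κ a))).op (κ a ^ N)) :=
    IsLocalization.map_units (M := Submonoid.powers (κ a)) Γ(P, P.basicOpen (κ a)) ⟨_, N, rfl⟩
  refine ⟨P.presheaf.map (homOfLE (P.basicOpen_le (κ a))).op w * ↑vu⁻¹, ?_⟩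
  have hu' : i.app _ (↑vu : Γ(P, P.basicOpen (κ a))) = resF i₁ (resF (X.basicOpen_le _) (t a) ^ N) := by
    rw [hvu, hkey]
    refine (congrArg (fun y => resF i₁ (resF (X.basicOpen_le _) y))
      (map_pow (i.appLE _ _ (hWpre a).ge).hom (κ a) N)).trans ?_
    simp only [map_pow]
    exact congrArg (fun y => resF i₁ (resF (X.basicOpen_le _) y) ^ N) (hκ a)
  have hz : i.app _ (P.presheaf.map (homOfLE (P.basicOpen_le (κ a))).op w) =
      z * i.app _ (↑vu : Γ(P, P.basicOpen (κ a))) := by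
    rw [hkey, hw, ← e, map_mul, resF_resF, resF_self, hu']
  rw [map_mul, hz, mul_assoc, ← map_mul, Units.mul_inv, map_one, mul_one]

/-- The coefficient of a combination of sections is a combination of coefficients. -/
theorem coeff_mem_rR (q : X ⟶ Y) {ι : Type*} [Fintype ι] (S : ι → Γ(L, ⊤)) (k : ι) (c : ι → Γ(Y, ⊤))
    {w : Γ(L, ⊤)} (hw : w = ∑ i, q.appLE ⊤ ⊤ le_top (c i) • S i) {a : Γ(X, gen L (S k))}
    (ha : a • resS L (le_top : gen L (S k) ≤ ⊤) (S k) = resS L le_top w) :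
    a ∈ rR q (S k) (Set.range S) := by
  have hg : IsGen L (resS L (le_top : gen L (S k) ≤ ⊤) (S k)) := isGen_gen (S k)
  choose ρ hρ using fun i => exists_coeff hg (resS L (le_top : gen L (S k) ≤ ⊤) (S i))
  have e : a = ∑ i, q.appLE ⊤ (gen L (S k)) le_top (c i) * ρ i := by
    refine (hg.bijective le_rfl).1 ?_
    beta_reduce
    rw [H10Coh.mres_self, ha, hw, Finset.sum_smul]
    unfold resS
    rw [map_sum]
    refine Finset.sum_congr rfl fun i _ => ?_
    rw [mul_smul]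
    refine (Scheme.Modules.map_smul _ _ _ _).trans ?_
    refine congrArg₂ (fun (a : Γ(X, gen L (S k))) z => a • z) ?_ (hρ i)
    exact congr($(q.appLE_map le_top (homOfLE le_top).op) (c i))
  rw [e]
  exact Subring.sum_mem _ fun i _ => Subring.mul_mem _ (Subring.subset_closure (Or.inl ⟨_, rfl⟩))
    (Subring.subset_closure (Or.inr ⟨_, ⟨i, rfl⟩, (hρ i).symm⟩))

/-- A point where a combination of sections generates is a point where one of them generates. -/
theorem exists_mem_gen_of_comb (q : X ⟶ Y) (hL : PicF.IsInvertible L) {ι : Type*} [Fintype ι] (S : ι → Γ(L, ⊤))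
    (c : ι → Γ(Y, ⊤)) {w : Γ(L, ⊤)} (hw : w = ∑ i, q.appLE ⊤ ⊤ le_top (c i) • S i) {x : X} (hx : x ∈ gen L w) :
    ∃ k, x ∈ gen L (S k) := by
  obtain ⟨V, e, hxV, he⟩ := H11Ample.exists_gen hL x
  choose a ha using fun i => exists_coeff he (resS L (le_top : V ≤ ⊤) (S i))
  obtain ⟨b, hb⟩ := exists_coeff he (resS L (le_top : V ≤ ⊤) w)
  have hxb : x ∈ X.basicOpen b := (gen_inf_eq_basicOpen he w b hb).le ⟨hx, hxV⟩
  have hbe : b = ∑ i, q.appLE ⊤ V le_top (c i) * a i := by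
    refine (he.bijective le_rfl).1 ?_
    beta_reduce
    rw [H10Coh.mres_self, ← hb, hw, Finset.sum_smul]
    unfold resS
    rw [map_sum]
    refine Finset.sum_congr rfl fun i _ => ?_
    rw [mul_smul]
    refine (Scheme.Modules.map_smul _ _ _ _).trans ?_
    refine congrArg₂ (fun (a : Γ(X, V)) z => a • z) ?_ (ha i)
    exact congr($(q.appLE_map le_top (homOfLE le_top).op) (c i))
  by_contra hn
  push Not at hn
  have hmem : X.presheaf.germ V x hxV b ∈ IsLocalRing.maximalIdeal (X.presheaf.stalk x) := by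
    rw [hbe, map_sum]
    refine Ideal.sum_mem _ fun i _ => ?_
    rw [map_mul]
    refine Ideal.mul_mem_left _ _ ?_
    intro hu
    exact hn i ((gen_inf_eq_basicOpen he (S i) (a i) (ha i)).ge ((X.mem_basicOpen (a i) x hxV).2 hu)).1
  exact hmem ((X.mem_basicOpen b x hxV).1 hxb)

/-- Standard data with respect to some sections give such data for sections spanning them. -/
theorem exists_change [IsAffine Y] (q : X ⟶ Y) (hL : PicF.IsInvertible L) {ι : Type*} [Fintype ι]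
    (S : ι → Γ(L, ⊤)) (A : Set Γ(L, ⊤)) (hA : ∀ w ∈ A, ∃ c : ι → Γ(Y, ⊤), w = ∑ i, q.appLE ⊤ ⊤ le_top (c i) • S i)
    (v : Γ(L, ⊤)) (hv : v ∈ A) (t : Γ(X, gen L v)) (ht : t ∈ rR q v A)
    (haff : IsAffineOpen (X.basicOpen t)) (hfr : fracRing (rR q v A) ht = ⊤)
    (x : X) (hx : x ∈ X.basicOpen t) :
    ∃ (k : ι) (t' : Γ(X, gen L (S k))) (ht' : t' ∈ rR q (S k) (Set.range S)),
      x ∈ X.basicOpen t' ∧ IsAffineOpen (X.basicOpen t') ∧
        fracRing (rR q (S k) (Set.range S)) ht' = ⊤ := by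
  obtain ⟨cv, hcv⟩ := hA v hv
  obtain ⟨k, hk⟩ := exists_mem_gen_of_comb q hL S cv hcv (X.basicOpen_le t hx)
  let R' := rR q (S k) (Set.range S)
  have hgS : IsGen L (resS L (le_top : gen L (S k) ≤ ⊤) (S k)) := isGen_gen (S k)
  have hgv : IsGen L (resS L (le_top : gen L v ≤ ⊤) v) := isGen_gen v
  obtain ⟨d, hd⟩ := exists_coeff hgS (resS L (le_top : gen L (S k) ≤ ⊤) v)
  obtain ⟨e, he⟩ := exists_coeff hgv (resS L (le_top : gen L v ≤ ⊤) (S k))
  have hdR : d ∈ R' := coeff_mem_rR q S k cv hcv hd.symm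
  let B := X.basicOpen d
  have hB : gen L v ⊓ gen L (S k) = B := gen_inf_eq_basicOpen hgS v d hd
  have hBG : B ≤ gen L v := hB.ge.trans inf_le_left
  have hBH : B ≤ gen L (S k) := X.basicOpen_le d
  have hgB : IsGen L (resS L (le_top : B ≤ ⊤) (S k)) := by
    have := hgS.res hBH
    unfold resS at this ⊢
    rwa [H10Coh.mres_mres] at this
  have cancelB : ∀ a b : Γ(X, B), a • resS L (le_top : B ≤ ⊤) (S k) = b • resS L (le_top : B ≤ ⊤) (S k) → a = b :=
    fun a b h => (hgB.bijective le_rfl).1 (by beta_reduce; rw [H10Coh.mres_self]; exact h)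
  have hdB : resS L (le_top : B ≤ ⊤) v = resF hBH d • resS L (le_top : B ≤ ⊤) (S k) := by
    have h := congrArg (resS L hBH) hd
    rwa [resS_resS, resS_smul, resS_resS] at h
  have heB : resF hBG e * resF hBH d = 1 := by
    apply cancelB
    have h := congrArg (resS L hBG) he
    rw [resS_resS, resS_smul, resS_resS, hdB, smul_smul] at h
    rw [one_smul]
    exact h.symm
  have hfrac : ∀ z ∈ rR q v A, resF hBG z ∈ fracRing R' hdR := by
    intro z hz
    refine (Subring.closure_le (t := (fracRing R' hdR).comap (resF hBG))).2 ?_ hz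
    rintro c (⟨r, rfl⟩ | ⟨w, hw, hcw⟩)
    · refine ⟨0, q.appLE ⊤ (gen L (S k)) le_top r, Subring.subset_closure (Or.inl ⟨r, rfl⟩), ?_⟩
      rw [pow_zero, mul_one]
      exact (congr($(q.appLE_map le_top (homOfLE hBG).op) r)).trans (congr($(q.appLE_map le_top (homOfLE hBH).op) r)).symm
    · obtain ⟨cw, hcw'⟩ := hA w hw
      obtain ⟨a, ha⟩ := exists_coeff hgS (resS L (le_top : gen L (S k) ≤ ⊤) w)
      refine ⟨1, a, coeff_mem_rR q S k cw hcw' ha.symm, cancelB _ _ ?_⟩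
      have h1 := congrArg (resS L hBG) hcw
      have h2 := congrArg (resS L hBH) ha
      rw [resS_smul, resS_resS, resS_resS, hdB, smul_smul] at h1
      rw [resS_resS, resS_smul, resS_resS] at h2
      rw [pow_one]
      exact h1.trans h2
  obtain ⟨N₀, a₀, ha₀, hta₀⟩ := hfrac t ht
  let t' : Γ(X, gen L (S k)) := a₀ * d
  have ht' : t' ∈ R' := Subring.mul_mem _ ha₀ hdR
  have hud : IsUnit (resF hBH d) := X.toRingedSpace.isUnit_res_basicOpen d
  have hbo : X.basicOpen t' = X.basicOpen t ⊓ B := by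
    have h1 : X.basicOpen (resF hBH a₀) = X.basicOpen (resF hBG t) := by
      rw [← hta₀, Scheme.basicOpen_mul]
      exact inf_eq_left.2 ((X.basicOpen_le _).trans (X.basicOpen_of_isUnit (hud.pow N₀)).ge)
    simp only [resF, Scheme.basicOpen_res] at h1
    rw [Scheme.basicOpen_mul, inf_comm, inf_comm (X.basicOpen t)]
    exact h1
  have hbe : X.basicOpen (resF (X.basicOpen_le t) e) = X.basicOpen t' := by
    rw [hbo]
    show X.basicOpen (resF _ e) = _
    rw [← hB]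
    simp only [resF, Scheme.basicOpen_res]
    rw [← gen_inf_eq_basicOpen hgv (S k) e he]
    refine le_antisymm (fun y hy => ?_) fun y hy => ?_
    · exact ⟨hy.1, X.basicOpen_le t hy.1, hy.2.1⟩
    · exact ⟨hy.1, hy.2.2, hy.2.1⟩
  refine ⟨k, t', ht', hbo.ge ⟨hx, hB.le ⟨X.basicOpen_le t hx, hk⟩⟩, hbe ▸ haff.basicOpen _,
    eq_top_iff.2 fun z _ => ?_⟩
  haveI := haff.isLocalization_basicOpen (resF (X.basicOpen_le t) e)
  obtain ⟨⟨z₀, ⟨_, M, rfl⟩⟩, hz⟩ := IsLocalization.surj (Submonoid.powers (resF (X.basicOpen_le t) e)) (resF hbe.le z)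
  obtain ⟨N, a, ha, hza⟩ : z₀ ∈ fracRing (rR q v A) ht := hfr.ge (Subring.mem_top z₀)
  obtain ⟨N₁, a₁, ha₁, haa₁⟩ := hfrac a ha
  refine ⟨N + N₁, a₁ * a₀ ^ N₁ * d ^ (M + N₀ * N + N),
    Subring.mul_mem _ (Subring.mul_mem _ ha₁ (Subring.pow_mem _ ha₀ _)) (Subring.pow_mem _ hdR _), ?_⟩
  have hTT : X.basicOpen t' ≤ X.basicOpen t := hbo.le.trans inf_le_left
  have hTB : X.basicOpen t' ≤ B := hbo.le.trans inf_le_right
  have hz' := congrArg (resF hbe.ge) hz
  have alg : ∀ y, algebraMap Γ(X, X.basicOpen t) Γ(X, X.basicOpen (resF (X.basicOpen_le t) e)) y =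
      resF (X.basicOpen_le _) y := fun _ => rfl
  have e1 := congrArg (resF hTT) hza
  have e2 := congrArg (resF hTB) hta₀
  have e3 := congrArg (resF hTB) haa₁
  have e4 := congrArg (resF hTB) heB
  simp only [alg, map_mul, map_pow, resF_resF, resF_self] at hz' e1
  simp only [map_mul, map_pow, map_one, resF_resF] at e2 e3 e4
  have hM := congrArg (fun w => w ^ M) e4
  simp only [mul_pow, one_pow] at hM
  simp only [t', map_mul, map_pow]
  rw [← hz'] at e1
  rw [← e3, ← e1, ← e2]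
  linear_combination (-(z * resF (hTT.trans (X.basicOpen_le t)) t ^ (N + N₁) *
    resF (hTB.trans hBH) d ^ ((N₀ + 1) * (N + N₁)))) * hM

end Groth.Agent.H13VADesc
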